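import Groth.Agent.SGA1Quot.Basic
import Groth.Agent.UnivHomeo.Scheme
import Mathlib.Algebra.Polynomial.Roots
import Mathlib.Algebra.Polynomial.Basis

/-!
# Field-valued points of a quotient by a finite group, and universal homeomorphisms out of quotients
-/

set_option autoImplicit false
set_option linter.style.haveILetI false
set_option backward.isDefEq.respectTransparency false
set_option backward.isDefEq.respectTransparency.types false

universe u

open CategoryTheory CategoryTheory.Limits AlgebraicGeometry

namespace Groth.Agent.QuotHomeo28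

/-- Two maps to a domain which agree on invariants differ by a group element. -/
theorem exists_comp_eq {B K : Type*} [CommRing B] [CommRing K] [IsDomain K] {G : Type*} [Group G] [Finite G]
    (σ : G → B →+* B) (hmul : ∀ g h b, σ (g * h) b = σ g (σ h b)) (hone : ∀ b, σ 1 b = b)
    (φ ψ : B →+* K) (heq : ∀ b, (∀ g, σ g b = b) → φ b = ψ b) :
    ∃ g, φ.comp (σ g) = ψ := by
  classical
  have := Fintype.ofFinite G
  by_contra hc
  push Not at hc
  have hb : ∀ g, ∃ b, φ (σ g b) ≠ ψ b := fun g => by
    by_contra h
    push Not at h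
    exact hc g (RingHom.ext h)
  choose b hb using hb
  let e := Fintype.equivFin G
  let p : Polynomial B := ∑ g, Polynomial.C (b g) * Polynomial.X ^ (e g : ℕ)
  have hp : ∀ g, p.coeff (e g : ℕ) = b g := fun g => by
    simp only [p, Polynomial.finsetSum_coeff, Polynomial.coeff_C_mul_X_pow]
    rw [Finset.sum_eq_single g (fun h _ hne => if_neg fun he => hne (e.injective (Fin.ext he.symm)))
      (fun h => absurd (Finset.mem_univ g) h), if_pos rfl]
  let Q : Polynomial (Polynomial B) := ∏ g, (Polynomial.X - Polynomial.C (p.map (σ g)))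
  have hQ : ∀ h, Q.map (Polynomial.mapRingHom (σ h)) = Q := fun h => by
    simp only [Q, Polynomial.map_prod, Polynomial.map_sub, Polynomial.map_X, Polynomial.map_C,
      Polynomial.coe_mapRingHom, Polynomial.map_map]
    refine Fintype.prod_equiv (Equiv.mulLeft h) _ _ fun g => ?_
    rw [Equiv.coe_mulLeft, show (σ h).comp (σ g) = σ (h * g) from RingHom.ext fun x => (hmul h g x).symm]
  have hev : (Q.map (Polynomial.mapRingHom φ)).eval (p.map ψ) = 0 := by
    have hco : Q.map (Polynomial.mapRingHom φ) = Q.map (Polynomial.mapRingHom ψ) := by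
      ext i j
      simp only [Polynomial.coeff_map, Polynomial.coe_mapRingHom]
      refine heq _ fun g => ?_
      have := congrArg (fun R : Polynomial (Polynomial B) => (R.coeff i).coeff j) (hQ g)
      simpa [Polynomial.coeff_map] using this
    rw [hco]
    simp only [Q, Polynomial.map_prod, Polynomial.map_sub, Polynomial.map_X, Polynomial.map_C,
      Polynomial.coe_mapRingHom, Polynomial.eval_prod]
    refine Finset.prod_eq_zero (Finset.mem_univ (1 : G)) ?_
    rw [show σ 1 = RingHom.id B from RingHom.ext hone, Polynomial.map_id]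
    simp
  simp only [Q, Polynomial.map_prod, Polynomial.map_sub, Polynomial.map_X, Polynomial.map_C,
    Polynomial.coe_mapRingHom, Polynomial.eval_prod, Polynomial.eval_sub, Polynomial.eval_X, Polynomial.eval_C,
    Finset.prod_eq_zero_iff, Polynomial.map_map] at hev
  obtain ⟨g, -, hg⟩ := hev
  refine hb g ?_
  have := congrArg (fun r : Polynomial K => r.coeff (e g : ℕ)) (sub_eq_zero.1 hg)
  simpa [Polynomial.coeff_map, hp] using this.symm

variable {X Y : Scheme.{u}} {G : Type u} [Group G] [Finite G] {ρ : G →* Aut X} {q : X ⟶ Y}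

/-- Field-valued points over the same point of the quotient are conjugate. -/
theorem exists_point_eq (hq : SGA1.IsQuot ρ q) {K : Type u} [Field K]
    (a b : Spec (CommRingCat.of K) ⟶ X) (h : a ≫ q = b ≫ q) : ∃ g, a ≫ (ρ g).hom = b := by
  haveI := hq.affine
  let pt : Spec (CommRingCat.of K) := Classical.arbitrary _
  obtain ⟨V, hV, hy, -⟩ := exists_isAffineOpen_mem_and_subset (x := (a ≫ q) pt) (U := (⊤ : Y.Opens)) trivial
  let hW := hV.preimage q
  have hfac : ∀ c : Spec (CommRingCat.of K) ⟶ X, c ≫ q = a ≫ q →
      ∃ φ : Γ(X, q ⁻¹ᵁ V) ⟶ CommRingCat.of K, c = Spec.map φ ≫ hW.fromSpec := fun c hc => by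
    have hrange : Set.range c ⊆ Set.range hW.fromSpec := by
      rw [hW.range_fromSpec]
      rintro _ ⟨s, rfl⟩
      rw [Subsingleton.elim s pt]
      show q (c pt) ∈ V
      rw [← Scheme.Hom.comp_apply, hc]
      exact hy
    exact ⟨Spec.preimage (IsOpenImmersion.lift hW.fromSpec c hrange), by
      rw [Spec.map_preimage, IsOpenImmersion.lift_fac]⟩
  obtain ⟨φ, hφ⟩ := hfac a rfl
  obtain ⟨ψ, hψ⟩ := hfac b h.symm
  have hc : q.app V ≫ φ = q.app V ≫ ψ := by
    refine Spec.map_injective ?_
    rw [← cancel_mono hV.fromSpec, Spec.map_comp, Spec.map_comp, Category.assoc, Category.assoc,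
      Scheme.Hom.app_eq_appLE, IsAffineOpen.SpecMap_appLE_fromSpec q hV hW le_rfl, ← Category.assoc,
      ← Category.assoc, ← hφ, ← hψ, h]
  have e := SGA1.preimage_le_of_inv ρ q hq.inv
  let σ : G → Γ(X, q ⁻¹ᵁ V) →+* Γ(X, q ⁻¹ᵁ V) := fun g => (FEtQuot.act q ρ hq.inv g V).hom
  obtain ⟨g, hg⟩ := exists_comp_eq σ
    (fun g h' x => by simp only [σ, FEtQuot.act_mul]; rfl)
    (fun x => by simp only [σ, FEtQuot.act_one]; rfl)
    φ.hom ψ.hom fun x hx => by
      obtain ⟨y, rfl⟩ := (hq.range_iff V x).2 fun g => by
        have := hx g⁻¹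
        simp only [σ, FEtQuot.act, inv_inv] at this
        exact this
      exact congrArg (fun k => k y) hc
  refine ⟨g⁻¹, ?_⟩
  have hψ' : ψ = FEtQuot.act q ρ hq.inv g V ≫ φ := CommRingCat.hom_ext hg.symm
  rw [hφ, hψ, hψ', Spec.map_comp, Category.assoc, Category.assoc]
  exact congrArg (Spec.map φ ≫ ·) (IsAffineOpen.SpecMap_appLE_fromSpec (ρ g⁻¹).hom hW hW (e g⁻¹ V)).symm

/-- A morphism with a surjection from `X'` which separates only conjugate points is universally injective. -/
theorem universallyInjective_of_points {X' Y' P : Scheme.{u}} (r : X' ⟶ Y') [Surjective r] (m : Y' ⟶ P)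
    (h : ∀ (K : Type u) [Field K] (a b : Spec (CommRingCat.of K) ⟶ X'), a ≫ r ≫ m = b ≫ r ≫ m → a ≫ r = b ≫ r) :
    UniversallyInjective m := by
  rw [UniversallyInjective.iff_diagonal, surjective_iff]
  intro z
  let t : pullback (r ≫ m) (r ≫ m) ⟶ pullback m m :=
    pullback.map (r ≫ m) (r ≫ m) m m r r (𝟙 P) (Category.comp_id _) (Category.comp_id _)
  obtain ⟨w, hw⟩ : ∃ w, t w = z := by
    obtain ⟨x₁, hx₁⟩ := r.surjective (pullback.fst m m z)
    obtain ⟨x₂, hx₂⟩ := r.surjective (pullback.snd m m z)
    have : Surjective t := MorphismProperty.pullback_map (P := @Surjective) (inferInstance : Surjective r) (inferInstance : Surjective r) rfl rfl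
    exact t.surjective z
  let φ := (pullback (r ≫ m) (r ≫ m)).fromSpecResidueField w
  have key := h _ (φ ≫ pullback.fst _ _) (φ ≫ pullback.snd _ _) (by
    rw [Category.assoc, Category.assoc, pullback.condition])
  let c := (φ ≫ pullback.fst _ _) ≫ r
  have hz : φ ≫ t = c ≫ pullback.diagonal m := by
    apply pullback.hom_ext
    · simp [c, t]
    · simp only [Category.assoc] at key
      simp [c, t, key]
  refine ⟨c (IsLocalRing.closedPoint _), ?_⟩
  rw [← Scheme.Hom.comp_apply, ← hz, Scheme.Hom.comp_apply,
    show φ (IsLocalRing.closedPoint _) = w from Scheme.fromSpecResidueField_apply _ _]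
  exact hw

/-- Universally closed after a surjection, and separating only conjugate points. -/
theorem isUnivHomeo_of_points {X' Y' P : Scheme.{u}} (r : X' ⟶ Y') [Surjective r] (m : Y' ⟶ P)
    [UniversallyClosed (r ≫ m)] [Surjective (r ≫ m)]
    (h : ∀ (K : Type u) [Field K] (a b : Spec (CommRingCat.of K) ⟶ X'), a ≫ r ≫ m = b ≫ r ≫ m → a ≫ r = b ≫ r) :
    FlatMor.IsUnivHomeo m := by
  haveI := universallyInjective_of_points r m h
  haveI : Surjective m := Surjective.of_comp r m
  haveI : UniversallyClosed m := UniversallyClosed.of_comp_surjective r m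
  intro A B i₁ i₂ f' hp
  have h1 : UniversallyClosed f' := MorphismProperty.of_isPullback hp.flip (inferInstance : UniversallyClosed m)
  have h2 : UniversallyInjective f' := MorphismProperty.of_isPullback hp.flip (inferInstance : UniversallyInjective m)
  have h3 : Surjective f' := MorphismProperty.of_isPullback hp.flip (inferInstance : Surjective m)
  show IsHomeomorph f'.base
  rw [isHomeomorph_iff_continuous_isClosedMap_bijective]
  exact ⟨f'.continuous, f'.isClosedMap, f'.injective, f'.surjective⟩

end Groth.Agent.QuotHomeo28
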